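import Groth.Agent.AbDualLib.Rigid
import Groth.Agent.AbVarLib.AlgEquivPrim
import Groth.Agent.AbVarLib.Bilin

/-!
# Primitivity of fibrewise algebraically trivial classes, pointwise

On a geometric fibre a class algebraically trivial on geometric fibres is translation invariant.
-/

set_option autoImplicit false
universe u

open CategoryTheory CategoryTheory.Limits MonoidalCategory CartesianMonoidalCategory MonObj AlgebraicGeometry

noncomputable section

namespace Groth.Agent.AbDualLib.Prim

open scoped Groth.Agent.PicLaw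
open PicLaw (pl)
open PicLaw.Mumford (op)

variable {S S' : Scheme.{u}} (g : S' ⟶ S) (X : Over S) [GrpObj X]

attribute [local instance] Functor.grpObjObj

/-- The composite of a point of the base change with the projection. -/
def pre {T : Over S'} (a : T ⟶ (Over.pullback g).obj X) : (Over.map g).obj T ⟶ X :=
  (Over.map g).map a ≫ (Over.mapPullbackAdj g).counit.app X

omit [GrpObj X] in
theorem pre_left {T : Over S'} (a : T ⟶ (Over.pullback g).obj X) : (pre g X a).left = a.left ≫ pullback.fst X.hom g := by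
  simp [pre]

omit [GrpObj X] in
theorem eq_unit_map_pre {T : Over S'} (a : T ⟶ (Over.pullback g).obj X) :
    (Over.mapPullbackAdj g).unit.app T ≫ (Over.pullback g).map (pre g X a) = a := by
  rw [pre, Functor.map_comp, ← Category.assoc]
  refine (congrArg (· ≫ _) ((Over.mapPullbackAdj g).unit.naturality a).symm).trans ?_
  exact (Category.assoc _ _ _).trans ((congrArg (a ≫ ·) ((Over.mapPullbackAdj g).right_triangle_components X)).trans
    (Category.comp_id a))

theorem pre_mul {T : Over S'} (a b : T ⟶ (Over.pullback g).obj X) : pre g X (a * b) = pre g X a * pre g X b := by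
  have h : (Over.mapPullbackAdj g).unit.app T ≫ (Over.pullback g).map (pre g X a * pre g X b) = a * b := by
    rw [Functor.map_mul, MonObj.comp_mul, eq_unit_map_pre, eq_unit_map_pre]
  have h2 := congrArg ((Over.mapPullbackAdj g).homEquiv T X).symm h
  rw [Adjunction.homEquiv_counit, Adjunction.homEquiv_counit] at h2
  refine h2.symm.trans ?_
  rw [Functor.map_comp, Category.assoc]
  refine (congrArg (_ ≫ ·) ((Over.mapPullbackAdj g).counit.naturality _)).trans ?_
  exact (Category.assoc _ _ _).symm.trans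
    ((congrArg (· ≫ _) ((Over.mapPullbackAdj g).left_triangle_components T)).trans (Category.id_comp _))

variable {X}

section fibre

variable [IsProper X.hom] [Smooth X.hom] [GeometricallyConnected X.hom]

/-- **Translation invariance on geometric fibres.** -/
theorem op_translate {T : Over S} (c : PicLoc.PicSet (X ⊗ T).left) (hc : PicZero.Zero T c) {Ω : Type u} [Field Ω]
    [IsAlgClosed Ω] (σ : Spec (CommRingCat.of Ω) ⟶ T.left) (a : Over.mk (σ ≫ T.hom) ⟶ X) :
    op (lift (fst X (Over.mk (σ ≫ T.hom)) * (snd X (Over.mk (σ ≫ T.hom)) ≫ a)) (snd X (Over.mk (σ ≫ T.hom))))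
        (op (X ◁ (Over.homMk σ rfl : Over.mk (σ ≫ T.hom) ⟶ T)) c) =
      op (X ◁ (Over.homMk σ rfl : Over.mk (σ ≫ T.hom) ⟶ T)) c := by
  let ΩS : Over S := Over.mk (σ ≫ T.hom)
  let σS : ΩS ⟶ T := Over.homMk σ rfl
  let h : Spec (CommRingCat.of Ω) ⟶ S := σ ≫ T.hom
  let A : Over (Spec (CommRingCat.of Ω)) := (Over.pullback h).obj X
  have : IsProper A.hom := inferInstanceAs (IsProper (pullback.snd X.hom h))
  have : Smooth A.hom := inferInstanceAs (Smooth (pullback.snd X.hom h))
  have : GeometricallyConnected A.hom := inferInstanceAs (GeometricallyConnected (pullback.snd X.hom h))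
  have : GeometricallyIntegral A.hom := AbVarLib.Basics.geometricallyIntegral A
  -- the class on the fibre
  let l : PicLoc.PicSet A.left := op (X ◁ σS) c
  obtain ⟨L, hL, hLc⟩ := PicGrp.exists_eq_cls c
  obtain ⟨w⟩ : Nonempty ↥(Spec (CommRingCat.of Ω)) := inferInstanceAs (Nonempty (PrimeSpectrum Ω))
  have hr : Set.range σ.base = {σ w} := Set.eq_singleton_iff_unique_mem.mpr
    ⟨⟨w, rfl⟩, by
      have : Subsingleton ↥(Spec (CommRingCat.of Ω)) := inferInstanceAs (Subsingleton (PrimeSpectrum Ω))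
      rintro _ ⟨w', rfl⟩; rw [Subsingleton.elim w' w]⟩
  obtain ⟨F', q, hconn, hlft, -, M, hM, t, t₀, ht, ht₀, ⟨e₁⟩, ⟨e₀⟩⟩ :=
    (PicZero.zero_iff hL).mp (hLc ▸ hc) (σ w) Ω σ hr
  let F : Over (Spec (CommRingCat.of Ω)) := Over.mk q
  have : ConnectedSpace ↥F.left := hconn
  have : LocallyOfFiniteType F.hom := hlft
  let qY := pullback.snd (PicF.XTproj X.hom T) σ
  let θ : A.left ⟶ pullback (PicF.XTproj X.hom T) σ := pullback.lift (X ◁ σS).left A.hom
    (congrArg CommaMorphism.left (whiskerLeft_snd X σS))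
  have hθq : θ ≫ qY = A.hom := pullback.lift_snd _ _ _
  have hθf : θ ≫ pullback.fst (PicF.XTproj X.hom T) σ = (X ◁ σS).left := pullback.lift_fst _ _ _
  let Θ : (A ⊗ F).left ⟶ pullback qY q := pullback.lift ((fst A F).left ≫ θ) (snd A F).left (by
    rw [Category.assoc, hθq]; exact pullback.condition)
  have key : ∀ (s : Spec (CommRingCat.of Ω) ⟶ F') (hs : s ≫ q = 𝟙 _),
      (lift (𝟙 A) (toUnit A ≫ (Over.homMk s hs : 𝟙_ (Over (Spec (CommRingCat.of Ω))) ⟶ F))).left ≫ Θ =
        θ ≫ pullback.lift (𝟙 _) (qY ≫ s) (by simp [hs]) := fun s hs => by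
    apply pullback.hom_ext
    · rw [Category.assoc, Category.assoc, pullback.lift_fst, pullback.lift_fst, Category.comp_id, ← Category.assoc,
        ← Over.comp_left, lift_fst, Over.id_left, Category.id_comp]
    · rw [Category.assoc, Category.assoc, pullback.lift_snd, pullback.lift_snd, ← Category.assoc θ, hθq,
        ← Over.comp_left, lift_snd]
      rfl
  have hcls := (PicLaw.iso_iff (PicLoc.isInvertible_pullback _ hM) (PicLoc.isInvertible_pullback _ hL)).mp ⟨e₁⟩
  have hcls₀ := (PicGrp.cls_eq_one_iff (PicLoc.isInvertible_pullback _ hM)).mpr ⟨e₀⟩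
  rw [PicLaw.cls_pullback _ hM] at hcls₀
  rw [PicLaw.cls_pullback _ hM, PicLaw.cls_pullback _ hL] at hcls
  let tS : 𝟙_ (Over (Spec (CommRingCat.of Ω))) ⟶ F := Over.homMk t ht
  let tS₀ : 𝟙_ (Over (Spec (CommRingCat.of Ω))) ⟶ F := Over.homMk t₀ ht₀
  let m : PicLoc.PicSet (A ⊗ F).left := pl Θ (PicGrp.cls M hM)
  have hm₀ : op (lift (𝟙 A) (toUnit A ≫ tS₀)) m = 1 := by
    show pl _ (pl Θ _) = 1
    rw [← PicLaw.pl_comp, key t₀ ht₀, PicLaw.pl_comp]
    exact (congrArg (pl θ) hcls₀).trans (map_one _)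
  have hm₁ : op (lift (𝟙 A) (toUnit A ≫ tS)) m = l := by
    show pl _ (pl Θ _) = pl (X ◁ σS).left c
    rw [← PicLaw.pl_comp, key t ht, PicLaw.pl_comp, hLc]
    refine (congrArg (pl θ) hcls).trans ?_
    rw [← PicLaw.pl_comp]
    exact PicLaw.pl_congr hθf _
  have hprim := AbVarLib.AlgEquivPrim.primitive_of_family m tS tS₀ hm₀
  rw [hm₁] at hprim
  -- translate
  let aA : 𝟙_ (Over (Spec (CommRingCat.of Ω))) ⟶ A := Over.homMk (pullback.lift a.left (𝟙 _)
    (by rw [Category.id_comp]; exact Over.w a)) (pullback.lift_snd _ _ _)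
  have htr := (AbVarLib.TransInv.iff_primitive l).mpr hprim aA
  let κ : X ⊗ ΩS ⟶ (Over.map h).obj A := Over.homMk (𝟙 _) (by
    show 𝟙 _ ≫ pullback.snd X.hom h ≫ h = pullback.fst X.hom h ≫ X.hom
    rw [Category.id_comp, pullback.condition])
  have h1 : κ ≫ pre h X (𝟙 A) = fst X ΩS := by
    refine Over.OverMorphism.ext ?_
    rw [Over.comp_left, pre_left]
    exact (Category.id_comp _).trans (Category.id_comp _)
  have h2 : κ ≫ pre h X (toUnit A ≫ aA) = snd X ΩS ≫ a := by
    refine Over.OverMorphism.ext ?_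
    rw [Over.comp_left, pre_left, Over.comp_left]
    show 𝟙 _ ≫ ((A.hom ≫ pullback.lift a.left (𝟙 _) _) ≫ pullback.fst X.hom h) = pullback.snd X.hom h ≫ a.left
    rw [Category.id_comp, Category.assoc, pullback.lift_fst]
    rfl
  have h3 : (𝟙 A * (toUnit A ≫ aA)).left = (lift (fst X ΩS * (snd X ΩS ≫ a)) (snd X ΩS)).left := by
    apply pullback.hom_ext
    · have e0 := congrArg (κ ≫ ·) (pre_mul h X (𝟙 A) (toUnit A ≫ aA))
      simp only [MonObj.comp_mul, h1, h2] at e0
      have e := congrArg Over.Hom.left e0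
      rw [Over.comp_left, pre_left] at e
      exact ((Category.id_comp _).symm.trans e).trans
        (congrArg CommaMorphism.left (lift_fst (fst X ΩS * (snd X ΩS ≫ a)) (snd X ΩS))).symm
    · exact (Over.w (𝟙 A * (toUnit A ≫ aA))).trans
        (congrArg CommaMorphism.left (lift_snd (fst X ΩS * (snd X ΩS ≫ a)) (snd X ΩS))).symm
  exact (PicLaw.pl_congr h3.symm l).trans htr

end fibre

end Groth.Agent.AbDualLib.Prim
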