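import Groth.Agent.AbDualLib.Prim

/-!
# Fibrewise algebraically trivial rigidified classes are primitive

For an abelian scheme with a given dual, a rigidified class on `X ×_S T` algebraically trivial on geometric
fibres is additive in the first variable, over any base `T`.
-/

set_option autoImplicit false
universe u

open CategoryTheory CategoryTheory.Limits MonoidalCategory CartesianMonoidalCategory MonObj AlgebraicGeometry
open TopologicalSpace

noncomputable section

namespace Groth.Agent.AbDualLib.Primitive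

open scoped Groth.Agent.PicLaw
open PicLaw (pl)
open PicLaw.Mumford (op)
open Rigid (sec)

variable {S : Scheme.{u}}

/-- The Picard group of a point is trivial. -/
theorem pic_field {Ω : Type u} [Field Ω] {W : Scheme.{u}} (e : W = Spec (CommRingCat.of Ω))
    (c : PicLoc.PicSet W) : c = 1 := by
  subst e
  obtain ⟨L, hL, rfl⟩ := PicGrp.exists_eq_cls c
  have : Subsingleton ↥(Spec (CommRingCat.of Ω)) := inferInstanceAs (Subsingleton (PrimeSpectrum Ω))
  have : Nonempty ↥(Spec (CommRingCat.of Ω)) := inferInstanceAs (Nonempty (PrimeSpectrum Ω))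
  exact (PicGrp.cls_eq_one_iff _).mpr (PicLaw.nonempty_iso_of_subsingleton hL)

section zero

variable {X Y : Over S}

/-- Being trivial on geometric fibres depends on the geometric fibres only. -/
theorem zero_congr_fibres {T : Over S} (c c' : PicLoc.PicSet (X ⊗ T).left) (hc : PicZero.Zero T c)
    (h : ∀ (Ω : Type u) [Field Ω] [IsAlgClosed Ω] (σ : Spec (CommRingCat.of Ω) ⟶ T.left),
      pl (pullback.fst (snd X T).left σ) c' = pl (pullback.fst (snd X T).left σ) c) : PicZero.Zero T c' := by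
  obtain ⟨L, hL, rfl⟩ := PicGrp.exists_eq_cls c
  refine PicZero.zero_of_family _ fun Ω _ _ σ => ?_
  have : Subsingleton ↥(Spec (CommRingCat.of Ω)) := inferInstanceAs (Subsingleton (PrimeSpectrum Ω))
  obtain ⟨w⟩ : Nonempty ↥(Spec (CommRingCat.of Ω)) := inferInstanceAs (Nonempty (PrimeSpectrum Ω))
  have hr : Set.range σ.base = {σ w} := Set.eq_singleton_iff_unique_mem.mpr
    ⟨⟨w, rfl⟩, by rintro _ ⟨w', rfl⟩; rw [Subsingleton.elim w' w]⟩
  obtain ⟨F, q, h1, h2, h3, M, hM, t, t₀, ht, ht₀, ⟨e₁⟩, ⟨e₀⟩⟩ := (PicZero.zero_iff hL).mp hc (σ w) Ω σ hr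
  refine ⟨F, q, h1, h2, h3, PicGrp.cls M hM, t, t₀, ht, ht₀, ?_, ?_⟩
  · rw [h Ω σ]
    exact (PicLaw.cls_pullback _ hM).symm.trans (((PicLaw.iso_iff (PicLoc.isInvertible_pullback _ hM)
      (PicLoc.isInvertible_pullback _ hL)).mp ⟨e₁⟩).trans (PicLaw.cls_pullback _ hL))
  · exact (PicLaw.cls_pullback _ hM).symm.trans
      ((PicGrp.cls_eq_one_iff (PicLoc.isInvertible_pullback _ hM)).mpr ⟨e₀⟩)

/-- A class trivial on geometric fibres. -/
theorem zero_of_fibres {T : Over S} (c : PicLoc.PicSet (X ⊗ T).left)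
    (h : ∀ (Ω : Type u) [Field Ω] [IsAlgClosed Ω] (σ : Spec (CommRingCat.of Ω) ⟶ T.left),
      pl (pullback.fst (snd X T).left σ) c = 1) : PicZero.Zero T c :=
  zero_congr_fibres 1 c (PicZero.zero_one T) fun Ω _ _ σ => by rw [h Ω σ, map_one]

theorem fibre_base {T : Over S} (n : PicLoc.PicSet T.left) {Ω : Type u} [Field Ω]
    (σ : Spec (CommRingCat.of Ω) ⟶ T.left) : pl (pullback.fst (snd X T).left σ) (op (snd X T) n) = 1 := by
  show pl _ (pl _ n) = 1
  rw [← PicLaw.pl_comp, pullback.condition, PicLaw.pl_comp, pic_field rfl (pl σ n), map_one]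

/-- Pullback along a morphism of the spaces preserves algebraic triviality on geometric fibres. -/
theorem zero_map (f : X ⟶ Y) {T : Over S} (c : PicLoc.PicSet (Y ⊗ T).left) (hc : PicZero.Zero T c) :
    PicZero.Zero T (op (f ▷ T) c) := by
  obtain ⟨L, hL, rfl⟩ := PicGrp.exists_eq_cls c
  refine PicZero.zero_of_family _ fun Ω _ _ σ => ?_
  have : Subsingleton ↥(Spec (CommRingCat.of Ω)) := inferInstanceAs (Subsingleton (PrimeSpectrum Ω))
  obtain ⟨w⟩ : Nonempty ↥(Spec (CommRingCat.of Ω)) := inferInstanceAs (Nonempty (PrimeSpectrum Ω))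
  have hr : Set.range σ.base = {σ w} := Set.eq_singleton_iff_unique_mem.mpr
    ⟨⟨w, rfl⟩, by rintro _ ⟨w', rfl⟩; rw [Subsingleton.elim w' w]⟩
  obtain ⟨F, q, h1, h2, h3, M, hM, t, t₀, ht, ht₀, ⟨e₁⟩, ⟨e₀⟩⟩ := (PicZero.zero_iff hL).mp hc (σ w) Ω σ hr
  let pX := pullback.snd (snd X T).left σ
  let pY := pullback.snd (PicF.XTproj Y.hom T) σ
  have hf : (f ▷ T).left ≫ (snd Y T).left = (snd X T).left := by rw [← Over.comp_left, whiskerRight_snd]
  let ψ : pullback (snd X T).left σ ⟶ pullback (PicF.XTproj Y.hom T) σ :=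
    pullback.lift (pullback.fst _ _ ≫ (f ▷ T).left) pX (by
      show (_ ≫ (f ▷ T).left) ≫ (snd Y T).left = pX ≫ σ
      rw [Category.assoc, hf, pullback.condition])
  have hψ : ψ ≫ pY = pX := pullback.lift_snd _ _ _
  let Ψ : pullback pX q ⟶ pullback pY q := pullback.map _ _ _ _ ψ (𝟙 _) (𝟙 _) (by rw [hψ, Category.comp_id]) (by simp)
  have hsl : ∀ (s : Spec (CommRingCat.of Ω) ⟶ F) (hs : s ≫ q = 𝟙 _),
      pullback.lift (𝟙 _) (pX ≫ s) (by simp [hs]) ≫ Ψ = ψ ≫ pullback.lift (𝟙 _) (pY ≫ s) (by simp [hs]) := by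
    intro s hs
    apply pullback.hom_ext
    · refine ((Category.assoc _ _ _).trans ?_).trans (Category.assoc _ _ _).symm
      refine Eq.trans (congrArg (_ ≫ ·) (pullback.lift_fst _ _ _)) ?_
      refine Eq.trans ?_ (congrArg (ψ ≫ ·) (pullback.lift_fst _ _ _)).symm
      refine (pullback.lift_fst_assoc _ _ _ _).trans ?_
      exact (Category.id_comp ψ).trans (Category.comp_id ψ).symm
    · refine ((Category.assoc _ _ _).trans ?_).trans (Category.assoc _ _ _).symm
      refine Eq.trans (congrArg (_ ≫ ·) (pullback.lift_snd _ _ _)) ?_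
      refine Eq.trans ?_ (congrArg (ψ ≫ ·) (pullback.lift_snd _ _ _)).symm
      refine (pullback.lift_snd_assoc _ _ _ _).trans ?_
      exact (Category.comp_id _).trans ((congrArg (· ≫ s) hψ).symm.trans (Category.assoc _ _ _))
  refine ⟨F, q, h1, h2, h3, pl Ψ (PicGrp.cls M hM), t, t₀, ht, ht₀, ?_, ?_⟩
  · rw [← PicLaw.pl_comp, hsl t ht, PicLaw.pl_comp]
    have h := (PicLaw.iso_iff (PicLoc.isInvertible_pullback _ hM) (PicLoc.isInvertible_pullback _ hL)).mp ⟨e₁⟩
    rw [PicLaw.cls_pullback _ hL] at h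
    refine (congrArg (pl ψ) ((PicLaw.cls_pullback _ hM).symm.trans h)).trans ?_
    rw [← PicLaw.pl_comp, PicLaw.Mumford.op, ← PicLaw.pl_comp]
    exact PicLaw.pl_congr (pullback.lift_fst _ _ _) _
  · rw [← PicLaw.pl_comp, hsl t₀ ht₀, PicLaw.pl_comp]
    have h := (PicGrp.cls_eq_one_iff (PicLoc.isInvertible_pullback _ hM)).mpr ⟨e₀⟩
    exact (congrArg (pl ψ) ((PicLaw.cls_pullback _ hM).symm.trans h)).trans (map_one _)

end zero

/-- Invertible classes are locally trivial. -/
theorem exists_pl_ι_eq_one {W : Scheme.{u}} (n : PicLoc.PicSet W) (x : W) :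
    ∃ V : W.Opens, x ∈ V ∧ pl V.ι n = 1 := by
  obtain ⟨N, hN, rfl⟩ := PicGrp.exists_eq_cls n
  open Groth.Agent.QCoh Groth.Agent.Props.GenLocus Groth.Agent.Props.GenTensor Groth.Agent.Props.GenPull in
  exact (by
    obtain ⟨V, e, hxV, he⟩ := exists_isGen hN x
    refine ⟨V, hxV, ?_⟩
    rw [← PicLaw.cls_pullback _ hN]
    refine (PicGrp.cls_eq_one_iff _).mpr ?_
    exact PicLaw.nonempty_iso_of_transition (fun _ : PUnit.{1} => (⊤ : (V : Scheme.{u}).Opens))
      (fun x => ⟨⟨⟩, trivial⟩)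
      (fun _ => res _ (le_of_eq V.ι_preimage_self.symm) (pb V.ι e)) (fun _ => (isGen_pb V.ι he).restrict _)
      (fun _ => one' ⊤) (fun _ => isGen_one _)
      (fun _ _ W' _ _ => ⟨1, (one_smul _ _).symm, (one_smul _ _).symm⟩))

/-- A morphism to `X ⊗ T` as a morphism over the base. -/
abbrev ptOver {X T : Over S} {W : Scheme.{u}} (σ : W ⟶ (X ⊗ T).left) :
    Over.mk ((σ ≫ (snd X T).left) ≫ T.hom) ⟶ X ⊗ T :=
  Over.homMk σ (by
    show σ ≫ (X ⊗ T).hom = (σ ≫ (snd X T).left) ≫ T.hom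
    rw [Category.assoc, Over.w])

section dual

variable {X Xt : Over S} [GrpObj Xt] {φ : ∀ T : Over S, PicF.Cl (PicF.XT X.hom T) → (T ⟶ Xt)}

/-- Classes from the base give the trivial point. -/
theorem pt_base {K : Precoverage Scheme.{u}} (hφ : AbDual.IsDualAV K X Xt φ) {T : Over S}
    (n : PicLoc.PicSet T.left) : φ T (op (snd X T) n).1 = 1 := by
  have hz : PicZero.Zero T (op (snd X T) n) := zero_of_fibres _ fun Ω _ _ σ => fibre_base n σ
  choose V hxV hV using exists_pl_ι_eq_one n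
  refine Over.OverMorphism.ext ?_
  refine Scheme.Cover.hom_ext (T.left.openCoverOfIsOpenCover V (.mk (top_le_iff.mp
    fun x _ => Opens.mem_iSup.mpr ⟨x, hxV x⟩))) _ _ fun x => ?_
  let TV : Over S := Over.mk ((V x).ι ≫ T.hom)
  let ιV : TV ⟶ T := Over.homMk (V x).ι rfl
  have h1 : op (X ◁ ιV) (op (snd X T) n) = 1 := by
    rw [← PicLaw.Mumford.op_comp, whiskerLeft_snd, PicLaw.Mumford.op_comp]
    exact (congrArg (op (snd X TV)) (hV x)).trans (map_one _)
  have h2 : ιV ≫ φ T (op (snd X T) n).1 = ιV ≫ 1 := by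
    rw [← PicZero.pt_natural hφ ιV _ hz, h1, PicZero.pt_one hφ, MonObj.comp_one]
  exact congrArg CommaMorphism.left h2

variable [IsLocallyNoetherian S] [GrpObj X] [IsProper X.hom] [Smooth X.hom] [GeometricallyConnected X.hom]
  (hφ : AbDual.IsDualAV Scheme.fppfPrecoverage X Xt φ) {T : Over S} (c : PicLoc.PicSet (X ⊗ T).left)
  (hc : PicZero.Zero T c) (hrig : op (sec X T) c = 1)

omit [IsLocallyNoetherian S] [IsProper X.hom] [Smooth X.hom] [GeometricallyConnected X.hom] in
include hrig in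
theorem op_one_left {W : Over S} (t : W ⟶ T) : op (lift (1 : W ⟶ X) t) c = 1 := by
  rw [show lift (1 : W ⟶ X) t = t ≫ sec X T by rw [comp_lift, MonObj.comp_one, Category.comp_id],
    PicLaw.Mumford.op_comp, hrig, map_one]

set_option maxHeartbeats 1000000 in
include hφ hc hrig in
/-- **Primitivity.** -/
theorem op_mul {W : Over S} (a b : W ⟶ X) (t : W ⟶ T) :
    op (lift (a * b) t) c = op (lift a t) c * op (lift b t) c := by
  let f₁ : X ⊗ (X ⊗ T) ⟶ X := fst X (X ⊗ T)
  let f₂ : X ⊗ (X ⊗ T) ⟶ X := snd X (X ⊗ T) ≫ fst X T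
  let f₃ : X ⊗ (X ⊗ T) ⟶ T := snd X (X ⊗ T) ≫ snd X T
  let d : PicLoc.PicSet (X ⊗ (X ⊗ T)).left :=
    op (lift (f₁ * f₂) f₃) c / (op (lift f₁ f₃) c * op (lift f₂ f₃) c)
  have hd : ∀ {W : Over S} (a : W ⟶ X) (y : W ⟶ X ⊗ T), op (lift a y) d =
      op (lift (a * (y ≫ fst X T)) (y ≫ snd X T)) c /
        (op (lift a (y ≫ snd X T)) c * op (lift (y ≫ fst X T) (y ≫ snd X T)) c) := fun {W} a y => by
    simp only [d, map_div, map_mul, ← PicLaw.Mumford.op_comp, comp_lift, MonObj.comp_mul, f₁, f₂, f₃, lift_fst,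
      lift_snd_assoc]
  -- on geometric points of `X ⊗ T`
  have hσ : ∀ (Ω : Type u) [Field Ω] [IsAlgClosed Ω] (σ : Spec (CommRingCat.of Ω) ⟶ (X ⊗ T).left),
      op (X ◁ (ptOver σ)) d = 1 := by
    intro Ω _ _ σ
    let σT := σ ≫ (snd X T).left
    let ΩS : Over S := Over.mk (σT ≫ T.hom)
    let σS : ΩS ⟶ X ⊗ T := ptOver σ
    let a₀ : ΩS ⟶ X := σS ≫ fst X T
    let bS : ΩS ⟶ T := Over.homMk σT rfl
    have hb : σS ≫ snd X T = bS := Over.OverMorphism.ext rfl
    show op (X ◁ σS) d = 1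
    rw [show X ◁ σS = lift (fst X ΩS) (snd X ΩS ≫ σS) by
      apply CartesianMonoidalCategory.hom_ext <;> simp, hd, Category.assoc, Category.assoc, hb]
    change op (lift (fst X ΩS * (snd X ΩS ≫ a₀)) (snd X ΩS ≫ bS)) c /
      (op (lift (fst X ΩS) (snd X ΩS ≫ bS)) c * op (lift (snd X ΩS ≫ a₀) (snd X ΩS ≫ bS)) c) = 1
    have h3 : op (lift (snd X ΩS ≫ a₀) (snd X ΩS ≫ bS)) c = 1 := by
      rw [show lift (snd X ΩS ≫ a₀) (snd X ΩS ≫ bS) = snd X ΩS ≫ lift a₀ bS by rw [comp_lift],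
        PicLaw.Mumford.op_comp, pic_field rfl (op (lift a₀ bS) c), map_one]
    have h1 : ∀ x : X ⊗ ΩS ⟶ X, lift x (snd X ΩS ≫ bS) = lift x (snd X ΩS) ≫ X ◁ bS := fun x => by
      apply CartesianMonoidalCategory.hom_ext <;> simp
    rw [h3, _root_.mul_one, h1, h1, PicLaw.Mumford.op_comp, PicLaw.Mumford.op_comp,
      Prim.op_translate c hc σT a₀, lift_fst_snd]
    rw [show op (𝟙 (X ⊗ ΩS)) (op (X ◁ bS) c) = op (X ◁ bS) c from PicLaw.pl_id _]
    exact div_self' _
  have hzero : PicZero.Zero (X ⊗ T) d := zero_of_fibres _ fun Ω _ _ σ => by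
    let ΩS : Over S := Over.mk ((σ ≫ (snd X T).left) ≫ T.hom)
    let σS : ΩS ⟶ X ⊗ T := ptOver σ
    let θ : pullback (snd X (X ⊗ T)).left σ ⟶ (X ⊗ ΩS).left :=
      pullback.lift (pullback.fst _ _ ≫ (fst X (X ⊗ T)).left) (pullback.snd _ _) (by
        rw [Category.assoc, Over.w (fst X (X ⊗ T)), ← Over.w (snd X (X ⊗ T)), pullback.condition_assoc]
        show pullback.snd _ _ ≫ σ ≫ (X ⊗ T).hom = pullback.snd _ _ ≫ (σ ≫ (snd X T).left) ≫ T.hom
        rw [Category.assoc, Over.w])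
    have hθ : θ ≫ (X ◁ σS).left = pullback.fst (snd X (X ⊗ T)).left σ := by
      apply pullback.hom_ext
      · refine (Category.assoc _ _ _).trans ?_
        refine (congrArg (θ ≫ ·) (congrArg CommaMorphism.left (whiskerLeft_fst X σS))).trans ?_
        exact pullback.lift_fst _ _ _
      · refine (Category.assoc _ _ _).trans ?_
        refine (congrArg (θ ≫ ·) (congrArg CommaMorphism.left (whiskerLeft_snd X σS))).trans ?_
        refine Eq.trans ?_ pullback.condition.symm
        exact (Category.assoc _ _ _).symm.trans (congrArg (· ≫ σ) (pullback.lift_snd _ _ _))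
    rw [← hθ, PicLaw.pl_comp]
    exact (congrArg (pl θ) (hσ Ω σ)).trans (map_one _)
  -- the point of the dual
  let f := φ (X ⊗ T) d.1
  have hsec : sec X T ≫ f = 1 := by
    rw [← PicZero.pt_natural hφ (sec X T) d hzero]
    rw [show X ◁ sec X T = lift (fst X T) (lift (1 : X ⊗ T ⟶ X) (snd X T)) by
      apply CartesianMonoidalCategory.hom_ext
      · simp
      · apply CartesianMonoidalCategory.hom_ext <;> simp, hd, lift_fst, lift_snd, _root_.mul_one,
      op_one_left c hrig, _root_.mul_one, div_self', PicZero.pt_one hφ]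
  have hf : f = 1 := by
    have key : f = snd X T ≫ sec X T ≫ f := Rigid.eq_of_top f fun x => by
      rw [hsec, MonObj.comp_one]
      let σ : Spec (CommRingCat.of (AlgebraicClosure ((X ⊗ T).left.residueField x))) ⟶ (X ⊗ T).left :=
        Spec.map (CommRingCat.ofHom (algebraMap ((X ⊗ T).left.residueField x)
          (AlgebraicClosure ((X ⊗ T).left.residueField x)))) ≫ (X ⊗ T).left.fromSpecResidueField x
      let ΩS : Over S := Over.mk ((σ ≫ (snd X T).left) ≫ T.hom)
      let σS : ΩS ⟶ X ⊗ T := ptOver σ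
      have h1 : σS ≫ f = σS ≫ 1 := by
        rw [← PicZero.pt_natural hφ σS d hzero, hσ _ σ, PicZero.pt_one hφ, MonObj.comp_one]
      obtain ⟨w⟩ : Nonempty ↥(Spec (CommRingCat.of (AlgebraicClosure ((X ⊗ T).left.residueField x)))) :=
        inferInstanceAs (Nonempty (PrimeSpectrum _))
      have hw : σ w = x := by
        show (X ⊗ T).left.fromSpecResidueField x _ = x
        exact Scheme.fromSpecResidueField_apply _ _
      have h2 := congrArg (fun m : ΩS ⟶ Xt => m.left w) h1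
      rw [← hw]
      exact h2
    rw [key, hsec, MonObj.comp_one]
  -- descend
  obtain ⟨R, hR, hu⟩ := PicZero.pt_locallyInjective hφ d 1 hzero (PicZero.zero_one _) (hf.trans (PicZero.pt_one hφ _).symm)
  have hd1 : d = 1 := by
    refine Rigid.eq_one_of_fppf_local d ?_ hR fun U u h => by rw [hu u h, map_one]
    rw [show sec X (X ⊗ T) = lift (1 : X ⊗ T ⟶ X) (𝟙 _) from rfl, hd, Category.id_comp, Category.id_comp,
      _root_.one_mul, op_one_left c hrig, _root_.one_mul, div_self']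
  have h := hd a (lift b t)
  rw [hd1, map_one, lift_fst, lift_snd] at h
  exact div_eq_one.mp h.symm

end dual

end Groth.Agent.AbDualLib.Primitive
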