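import Groth.Agent.Cube.Universal
import Groth.Agent.Cube.Global
import Groth.Agent.ParaFLib.QSepBC
import Groth.Agent.GrpScheme.HomFlat
import Groth.Agent.PicZero.Dual

/-!
# Rigidified classes and rigidity over a general base

`X` is proper and smooth over a locally Noetherian base, with geometrically connected fibres and a
group law.  A rigidified class on `X ×_S T` trivial locally for the fppf topology of `T` is trivial;
a map out of `X ×_S T` which agrees topologically with one factoring through `T` factors through `T`.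
-/

set_option autoImplicit false
universe u

open CategoryTheory CategoryTheory.Limits MonoidalCategory CartesianMonoidalCategory MonObj AlgebraicGeometry
open TopologicalSpace

noncomputable section

namespace Groth.Agent.AbDualLib.Rigid

open scoped Groth.Agent.PicLaw
open PicLaw (pl)
open PicLaw.Mumford (op)

/-- A smooth morphism is geometrically reduced. -/
theorem geometricallyReduced_of_smooth {X Y : Scheme.{u}} (f : X ⟶ Y) [Smooth f] : GeometricallyReduced f :=
  ⟨fun K _ y P fst snd H =>
    have : Smooth snd := MorphismProperty.of_isPullback H inferInstance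
    GrpScheme.HomFlat.isReduced_of_smooth snd⟩

variable {S : Scheme.{u}} {X : Over S}

theorem isPullback_snd (X T : Over S) : IsPullback (fst X T).left (snd X T).left X.hom T.hom :=
  IsPullback.of_hasPullback X.hom T.hom

instance isProper_snd' (X T : Over S) [IsProper X.hom] : IsProper (snd X T).left :=
  show IsProper (pullback.snd X.hom T.hom) from inferInstance

instance flat_snd' (X T : Over S) [Flat X.hom] : Flat (snd X T).left :=
  show Flat (pullback.snd X.hom T.hom) from inferInstance

/-- Functions on `X ×_S T` are functions on `T`. -/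
theorem bijective_app_snd [IsLocallyNoetherian S] [IsProper X.hom] [Smooth X.hom] [GeometricallyConnected X.hom]
    (T : Over S) (U : T.left.Opens) : Function.Bijective ((snd X T).left.app U) :=
  have := geometricallyReduced_of_smooth X.hom
  Cube.Universal.bijective_app X.hom T.hom (fst X T).left (snd X T).left ⊤
    (fun z _ => Cube.Seesaw.finrank_eq_one_of_geometrically X.hom z) (isPullback_snd X T) U le_top

theorem isPullback_whiskerLeft' (A : Over S) {B₀ B : Over S} (f : B₀ ⟶ B) :
    IsPullback (snd A B₀).left (A ◁ f).left f.left (snd A B).left := by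
  refine (IsPullback.of_right (h₁₂ := (fst A B).left) (v₁₃ := A.hom) (h₂₂ := B.hom) ?_ ?_
    (IsPullback.of_hasPullback A.hom B.hom)).flip
  · rw [← Over.comp_left, whiskerLeft_fst, Over.w]
    exact IsPullback.of_hasPullback A.hom B₀.hom
  · exact congrArg CommaMorphism.left (whiskerLeft_snd A f)

theorem cls_op_eq_one {A B : Over S} (f : A ⟶ B) {L : B.left.Modules} (hL : PicF.IsInvertible L) :
    op f (PicGrp.cls L hL) = 1 ↔
      Nonempty ((Scheme.Modules.pullback f.left).obj L ≅ Coh.structureModule A.left) := by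
  show pl f.left _ = 1 ↔ _
  rw [← PicLaw.cls_pullback f.left hL]
  exact PicGrp.cls_eq_one_iff _

variable [GrpObj X]

/-- The zero section of `X ×_S T`. -/
abbrev sec (X T : Over S) [GrpObj X] : T ⟶ X ⊗ T := lift 1 (𝟙 T)

theorem sec_natural {T T' : Over S} (g : T' ⟶ T) : sec X T' ≫ X ◁ g = g ≫ sec X T := by
  apply CartesianMonoidalCategory.hom_ext <;> simp

variable [IsLocallyNoetherian S] [IsProper X.hom] [Smooth X.hom] [GeometricallyConnected X.hom]

/-- A rigidified class trivial after an fppf covering of the base is trivial. -/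
theorem eq_one_of_fppf_local {T : Over S} (c : PicLoc.PicSet (X ⊗ T).left) (hrig : op (sec X T) c = 1)
    {R : Presieve T.left} (hR : R ∈ Scheme.fppfPrecoverage T.left)
    (h : ∀ ⦃U : Scheme.{u}⦄ (u : U ⟶ T.left), R u → op (X ◁ AbDual.ovrHom T u) c = 1) : c = 1 := by
  obtain ⟨L, hL, rfl⟩ := PicGrp.exists_eq_cls c
  refine (PicGrp.cls_eq_one_iff hL).mpr ?_
  refine Cube.Seesaw.iso_of_locally (snd X T).left (sec X T).left
    (by rw [← Over.comp_left, lift_snd]; rfl) (fun U _ => bijective_app_snd T U)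
    ((cls_op_eq_one _ hL).mp hrig) fun z => ?_
  -- triviality over the local ring
  let Tz : Over S := Over.mk (T.left.fromSpecStalk z ≫ T.hom)
  let gz : Tz ⟶ T := Over.homMk (T.left.fromSpecStalk z) rfl
  suffices hz : op (X ◁ gz) (PicGrp.cls L hL) = 1 from
    Cube.Spread.exists_gen_nhd (snd X T).left hL z (isPullback_whiskerLeft' X gz).flip
      ((cls_op_eq_one _ hL).mp hz)
  obtain ⟨I, U, f, rfl⟩ := Presieve.exists_eq_ofArrows R
  obtain ⟨hcov, hprop⟩ := (Scheme.ofArrows_mem_precoverage_iff _).mp hR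
  obtain ⟨i, x, rfl⟩ := hcov z
  have : Flat (f i) := (hprop i).1
  let Tx : Over S := Over.mk ((U i).fromSpecStalk x ≫ f i ≫ T.hom)
  let g : Tx ⟶ Tz := Over.homMk (Spec.map ((f i).stalkMap x)) (by
    show Spec.map _ ≫ T.left.fromSpecStalk _ ≫ T.hom = _
    rw [← Category.assoc, Scheme.SpecMap_stalkMap_fromSpecStalk, Category.assoc]
    rfl)
  let gU : Tx ⟶ AbDual.ovr T (f i) := Over.homMk ((U i).fromSpecStalk x) rfl
  have hfac : g ≫ gz = gU ≫ AbDual.ovrHom T (f i) :=
    Over.OverMorphism.ext (Scheme.SpecMap_stalkMap_fromSpecStalk (f := f i) (x := x))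
  obtain ⟨Lz, hLz, hcz⟩ := PicGrp.exists_eq_cls (op (X ◁ gz) (PicGrp.cls L hL))
  have hffl : ((f i).stalkMap x).hom.FaithfullyFlat := by
    algebraize [((f i).stalkMap x).hom]
    exact @Module.FaithfullyFlat.of_flat_of_isLocalHom _ _ _ _ _ _ _
      (Flat.stalkMap (f i) x) ((f i).toLRSHom.prop x)
  obtain ⟨hfl, hsurj⟩ := (flat_and_surjective_SpecMap_iff _).mpr hffl
  have : Flat g.left := hfl
  have : Surjective g.left := hsurj
  have : QuasiCompact g.left := show QuasiCompact (Spec.map ((f i).stalkMap x)) from inferInstance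
  have hO := PicLoc.isInvertible_structureModule Tx.left
  have hpull : PicGrp.cls _ (PicLoc.isInvertible_pullback (X ◁ g).left hLz) =
      PicGrp.cls _ (PicLoc.isInvertible_pullback (snd X Tx).left hO) := by
    rw [PicLaw.cls_pullback _ hLz, PicLaw.cls_pullback _ hO, PicLaw.cls_one, map_one, ← hcz]
    show op (X ◁ g) (op (X ◁ gz) (PicGrp.cls L hL)) = 1
    rw [← PicLaw.Mumford.op_comp, ← MonoidalCategory.whiskerLeft_comp, hfac, MonoidalCategory.whiskerLeft_comp,
      PicLaw.Mumford.op_comp, h (f i) ⟨i⟩, map_one]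
  obtain ⟨φ⟩ := (PicLaw.iso_iff (PicLoc.isInvertible_pullback _ hLz) (PicLoc.isInvertible_pullback _ hO)).mpr hpull
  obtain ⟨hN, hε⟩ := ParaFLib.QSepBC.isIso_counit_of_isPullback (isPullback_whiskerLeft' X g).flip
    (fun V => bijective_app_snd Tz V) Lz hLz hO φ
  let N := (Scheme.Modules.pushforward (snd X Tz).left).obj Lz
  have hLN : pl (snd X Tz).left (PicGrp.cls N hN) = PicGrp.cls Lz hLz := by
    rw [← PicLaw.cls_pullback _ hN]
    exact (PicLaw.iso_iff (PicLoc.isInvertible_pullback _ hN) hLz).mp ⟨@asIso _ _ _ _ _ hε⟩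
  have h1 := congrArg (op (sec X Tz)) hLN
  rw [← hcz, ← PicLaw.Mumford.op_comp (sec X Tz) (X ◁ gz), sec_natural, PicLaw.Mumford.op_comp gz, hrig, map_one] at h1
  have h2 : PicGrp.cls N hN = 1 := by
    rw [← h1]
    show _ = op (sec X Tz) (op (snd X Tz) _)
    rw [← PicLaw.Mumford.op_comp, lift_snd]
    exact (PicLaw.pl_id _).symm
  rw [hcz, ← hLN, h2, map_one]

/-- A morphism out of `X ×_S T` agreeing topologically with one from `T` comes from `T`. -/
theorem eq_of_top {T P : Over S} (f : X ⊗ T ⟶ P)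
    (htop : ∀ x : (X ⊗ T).left, f.left x = (snd X T ≫ sec X T ≫ f).left x) : f = snd X T ≫ sec X T ≫ f := by
  let π := (snd X T).left
  let h := sec X T ≫ f
  refine Over.OverMorphism.ext ?_
  have hsp : (sec X T).left ≫ π = 𝟙 T.left := by rw [← Over.comp_left, lift_snd]; rfl
  choose U hU hzU hUle using fun z : T.left =>
    exists_isAffineOpen_mem_and_subset (U := (⊤ : P.left.Opens)) (Opens.mem_top (h.left z))
  refine Scheme.Cover.hom_ext ((X ⊗ T).left.openCoverOfIsOpenCover (fun z => π ⁻¹ᵁ (h.left ⁻¹ᵁ U z)) (.mk ?_)) _ _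
    fun z => ?_
  · exact top_le_iff.mp fun x _ => Opens.mem_iSup.mpr ⟨π x, hzU (π x)⟩
  let V := h.left ⁻¹ᵁ U z
  let W := π ⁻¹ᵁ V
  have hle1 : W ≤ f.left ⁻¹ᵁ U z := fun x hx => by
    show f.left x ∈ U z
    rw [htop]
    exact hx
  have hle2 : W ≤ (snd X T ≫ h).left ⁻¹ᵁ U z := le_of_eq rfl
  have : IsAffine (U z) := hU z
  show W.ι ≫ f.left = W.ι ≫ (snd X T ≫ h).left
  rw [← Scheme.Hom.resLE_comp_ι f.left hle1, ← Scheme.Hom.resLE_comp_ι (snd X T ≫ h).left hle2]
  congr 1
  refine ext_of_isAffine ?_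
  have key : f.left.appLE (U z) W hle1 = (snd X T ≫ h).left.appLE (U z) W hle2 := by
    have hsW : V ≤ (sec X T).left ⁻¹ᵁ W := le_of_eq (by
      show V = (sec X T).left ⁻¹ᵁ (π ⁻¹ᵁ V)
      rw [← Scheme.Hom.comp_preimage, hsp]; rfl)
    refine CommRingCat.hom_ext (RingHom.ext fun a => ?_)
    obtain ⟨c, hc⟩ := (bijective_app_snd T V).2 (f.left.appLE (U z) W hle1 a)
    have hid : π.app V ≫ (sec X T).left.appLE W V hsW = 𝟙 _ := by
      rw [Scheme.Hom.app_eq_appLE, Scheme.Hom.appLE_comp_appLE]
      simp only [hsp]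
      rw [Scheme.Hom.appLE, Scheme.Hom.id_app]
      exact (Category.id_comp _).trans ((congrArg T.left.presheaf.map (Subsingleton.elim _ (𝟙 (Opposite.op V)))).trans (T.left.presheaf.map_id (Opposite.op V)))
    have h1 : h.left.appLE (U z) V le_rfl a = c := by
      have e : h.left.appLE (U z) V le_rfl = f.left.appLE (U z) W hle1 ≫ (sec X T).left.appLE W V hsW := by
        rw [Scheme.Hom.appLE_comp_appLE]
        simp only [h, Over.comp_left]
      rw [e, CommRingCat.comp_apply, ← hc, ← CommRingCat.comp_apply, hid]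
      rfl
    rw [← hc, ← h1, ← CommRingCat.comp_apply, Scheme.Hom.app_eq_appLE, Scheme.Hom.appLE_comp_appLE]
    rfl
  rw [Scheme.Hom.appTop, Scheme.Hom.appTop, Scheme.Hom.resLE_app_top, Scheme.Hom.resLE_app_top, key]

end Groth.Agent.AbDualLib.Rigid
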