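import Groth.Agent.AbDualLib.Primitive
import Mathlib.CategoryTheory.Monoidal.Grp

/-!
# Transposes are additive
-/

set_option autoImplicit false
universe u

open CategoryTheory CategoryTheory.Limits MonoidalCategory CartesianMonoidalCategory MonObj AlgebraicGeometry

noncomputable section

namespace Groth.Agent.AbDualLib.Transpose

open scoped Groth.Agent.PicLaw
open PicLaw (pl)
open PicLaw.Mumford (op)
open Rigid (sec)

variable {S : Scheme.{u}} {X : Over S} [GrpObj X]

/-- The rigidification of a class. -/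
def rig {T : Over S} (c : PicLoc.PicSet (X ⊗ T).left) : PicLoc.PicSet (X ⊗ T).left :=
  c / op (snd X T) (op (sec X T) c)

theorem eq_rig_mul {T : Over S} (c : PicLoc.PicSet (X ⊗ T).left) :
    c = rig c * op (snd X T) (op (sec X T) c) := (div_mul_cancel _ _).symm

theorem op_sec_rig {T : Over S} (c : PicLoc.PicSet (X ⊗ T).left) : op (sec X T) (rig c) = 1 := by
  rw [rig, map_div, ← PicLaw.Mumford.op_comp (sec X T) (snd X T), lift_snd, PicLaw.Mumford.op]
  exact (congrArg (_ / ·) (PicLaw.pl_id _)).trans (div_self' _)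

theorem zero_rig {T : Over S} (c : PicLoc.PicSet (X ⊗ T).left) (hc : PicZero.Zero T c) : PicZero.Zero T (rig c) :=
  Primitive.zero_congr_fibres c (rig c) hc fun Ω _ _ σ => by
    rw [rig, map_div, Primitive.fibre_base, div_one]

theorem zero_base {Y : Over S} {T : Over S} (n : PicLoc.PicSet T.left) : PicZero.Zero T (op (snd Y T) n) :=
  Primitive.zero_of_fibres _ fun Ω _ _ σ => Primitive.fibre_base n σ

variable {Xt : Over S} [GrpObj Xt] {φ : ∀ T : Over S, PicF.Cl (PicF.XT X.hom T) → (T ⟶ Xt)}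

theorem pt_rig {K : Precoverage Scheme.{u}} (hφ : AbDual.IsDualAV K X Xt φ) {T : Over S}
    (c : PicLoc.PicSet (X ⊗ T).left) (hc : PicZero.Zero T c) : φ T (rig c).1 = φ T c.1 := by
  conv_rhs => rw [eq_rig_mul c, PicZero.pt_mul hφ _ _ (zero_rig c hc) (zero_base _), Primitive.pt_base hφ,
    _root_.mul_one]

/-- Pullback of classes along a morphism of the spaces, as in the definition of transposes. -/
theorem pullCl_bcMap {A B : Over S} (f : A ⟶ B) {T : Over S} (c : PicLoc.PicSet (B ⊗ T).left) :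
    PicF.pullCl (AbDual.bcMap f T) c.1 = (op (f ▷ T) c).1 := by
  rw [AbVarLib.Bilin.bcMap_eq, PicLaw.Mumford.op, PicZero.pl_val]

theorem exists_class {Y T : Over S} (c : PicF.Cl (PicF.XT Y.hom T)) (hc : AbDual.IsPicZeroCl Y.hom T c) :
    ∃ c' : PicLoc.PicSet (Y ⊗ T).left, c'.1 = c ∧ PicZero.Zero T c' := by
  obtain ⟨L, rfl, hL, h⟩ := hc
  exact ⟨PicGrp.cls L hL, rfl, L, rfl, hL, h⟩

/-- A class which is primitive after rigidification pulls back additively. -/
theorem pt_op_mul {Y Yt : Over S} [IsLocallyNoetherian S] [GrpObj Y] [GrpObj Yt] [IsProper Y.hom] [Smooth Y.hom]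
    [GeometricallyConnected Y.hom] {φY : ∀ T : Over S, PicF.Cl (PicF.XT Y.hom T) → (T ⟶ Yt)}
    (hφX : AbDual.IsDualAV Scheme.fppfPrecoverage X Xt φ)
    (hφY : AbDual.IsDualAV Scheme.fppfPrecoverage Y Yt φY)
    (f g : X ⟶ Y) {T : Over S} (c : PicLoc.PicSet (Y ⊗ T).left) (hc : PicZero.Zero T c) :
    φ T (op ((f * g) ▷ T) c).1 = φ T (op (f ▷ T) c).1 * φ T (op (g ▷ T) c).1 := by
  let n := op (sec Y T) c
  have hbase : ∀ h : X ⟶ Y, op (h ▷ T) (op (snd Y T) n) = op (snd X T) n := fun h => by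
    rw [← PicLaw.Mumford.op_comp, whiskerRight_snd]
  have hz : ∀ h : X ⟶ Y, φ T (op (h ▷ T) c).1 = φ T (op (h ▷ T) (rig c)).1 := fun h => by
    conv_lhs => rw [eq_rig_mul c, map_mul, hbase, PicZero.pt_mul hφX _ _
      (Primitive.zero_map h _ (zero_rig c hc)) (zero_base _), Primitive.pt_base hφX, _root_.mul_one]
  rw [hz, hz f, hz g, ← PicZero.pt_mul hφX _ _ (Primitive.zero_map f _ (zero_rig c hc))
    (Primitive.zero_map g _ (zero_rig c hc))]
  congr 2
  have e : ∀ h : X ⟶ Y, h ▷ T = lift (fst X T ≫ h) (snd X T) := fun h => by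
    apply CartesianMonoidalCategory.hom_ext <;> simp
  rw [e, e f, e g, MonObj.comp_mul]
  exact Primitive.op_mul hφY (rig c) (zero_rig c hc) (op_sec_rig c) _ _ _

end Groth.Agent.AbDualLib.Transpose

namespace Groth.Agent.AbDualLib.Transpose

open scoped Groth.Agent.PicLaw
open PicLaw.Mumford (op)

variable {S : Scheme.{u}}

/-- Maps out of a dual are determined on classes. -/
theorem hom_ext_of_classes {Y Yt Z : Over S} {φY : ∀ T : Over S, PicF.Cl (PicF.XT Y.hom T) → (T ⟶ Yt)}
    (hY : AbDual.IsRelPicZeroK Scheme.fppfPrecoverage Y.hom Yt φY) {g g' : Yt ⟶ Z}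
    (h : ∀ (T : Over S) (c : PicLoc.PicSet (Y ⊗ T).left), PicZero.Zero T c → φY T c.1 ≫ g = φY T c.1 ≫ g') :
    g = g' := by
  obtain ⟨R, hR, hu⟩ := hY.locallySurjective Yt (𝟙 Yt)
  refine Over.OverMorphism.ext ((PicZero.isSheafFor_fppf hR Z.left).isSeparatedFor.ext fun U u hRu => ?_)
  obtain ⟨c, hc, hφc⟩ := hu u hRu
  obtain ⟨c, rfl, hz⟩ := exists_class c hc
  have e := h _ c hz
  rw [hφc, Category.comp_id] at e
  exact congrArg CommaMorphism.left e

theorem geometricallyConnected_tensor (X Y : Over S) [Smooth X.hom] [GeometricallyConnected X.hom]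
    [Smooth Y.hom] [GeometricallyConnected Y.hom] : GeometricallyConnected (X ⊗ Y).hom :=
  show GeometricallyConnected (pullback.fst X.hom Y.hom ≫ X.hom) from GeometricallyConnected.comp _ _

theorem isProper_tensor (X Y : Over S) [IsProper X.hom] [IsProper Y.hom] : IsProper (X ⊗ Y).hom :=
  show IsProper (pullback.fst X.hom Y.hom ≫ X.hom) from inferInstance

theorem smooth_tensor (X Y : Over S) [Smooth X.hom] [Smooth Y.hom] : Smooth (X ⊗ Y).hom :=
  show Smooth (pullback.fst X.hom Y.hom ≫ X.hom) from inferInstance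

theorem pullback_trivial_hom {X Y : Over S} [GrpObj Y] {T : Over S} (c : PicLoc.PicSet (Y ⊗ T).left) :
    op ((1 : X ⟶ Y) ▷ T) c = op (snd X T) (op (Rigid.sec Y T) c) := by
  rw [← PicLaw.Mumford.op_comp,
    show (1 : X ⟶ Y) ▷ T = snd X T ≫ Rigid.sec Y T by apply CartesianMonoidalCategory.hom_ext <;> simp]

end Groth.Agent.AbDualLib.Transpose
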